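import Cfsg.Agent.EqLemmas
import Cfsg.Agent.Lib.Suzuki.Aut
import Cfsg.Agent.Lib.AutPSL.Count

/-!
# Automorphisms of the `S₃`-free simple groups (owner: helper87)

* `HasGen S`         : `Aut S = Inn S · ⟨σ⟩` for some `σ` fixing a non-trivial element
* `hasGen_of_isSuzukiOrPSL2` : true for `Sz(2^(2n+1))` and `L₂(3^(2n+1))`
-/

set_option autoImplicit false
set_option linter.style.haveILetI false

namespace Cfsg.Agent.SThreeFpf

open Matrix

/-- One automorphism with a non-trivial fixed point generates modulo the inner ones. -/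
def HasGen (S : Type*) [Group S] : Prop :=
  ∃ (σ : MulAut S) (w : S), w ≠ 1 ∧ σ w = w ∧
    ∀ α : MulAut S, ∃ (s : S) (i : ℕ), α = MulAut.conj s * σ ^ i

theorem hasGen_of_equiv {X S : Type*} [Group X] [Group S] (e : X ≃* S) (h : HasGen S) : HasGen X := by
  obtain ⟨σ, w, hw, hσ, hgen⟩ := h
  let c : MulAut S ≃* MulAut X := MulAut.congr e.symm
  have hc : ∀ (γ : MulAut S) (z : X), c γ z = e.symm (γ (e z)) := fun _ _ => rfl
  refine ⟨c σ, e.symm w, fun hh => hw (by simpa using congrArg e hh), by simp [hc, hσ], fun α => ?_⟩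
  obtain ⟨s, i, hsi⟩ := hgen (c.symm α)
  refine ⟨e.symm s, i, ?_⟩
  rw [← c.apply_symm_apply α, hsi, map_mul, map_pow]
  congr 1
  exact MulEquiv.ext fun z => by simp [hc, MulAut.conj_apply]

/-- The Suzuki groups. -/
theorem hasGen_sz {F : Type*} [Field F] [Fintype F] {m : ℕ} (hm : 1 ≤ m)
    (hF : Fintype.card F = 2 ^ (2 * m + 1)) : HasGen (Cfsg.Sz F m) := by
  haveI : Fact (Nat.Prime 2) := ⟨Nat.prime_two⟩
  haveI : Finite (RingAut F) := Finite.of_injective (fun τ : RingAut F => (τ : F → F)) DFunLike.coe_injective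
  haveI : IsCyclic (RingAut F) := (AutPSL.fieldAut_facts (F := F) 2 (2 * m + 1) (by omega) hF).1
  obtain ⟨φ, hφ⟩ := IsCyclic.exists_generator (α := RingAut F)
  refine ⟨Suzuki.fieldAut hm hF φ, Suzuki.wSz hF, fun h => ?_, Suzuki.fieldAut_wSz hm hF φ, fun α => ?_⟩
  · have := Suzuki.wSz_smul_infinity (F := F) (hF := hF)
    rw [h, one_smul] at this
    exact Suzuki.pointZero_ne_infinity this.symm
  · obtain ⟨g, τ, rfl⟩ := Suzuki.aut_decompose hm hF α
    obtain ⟨i, rfl⟩ := mem_powers_iff_mem_zpowers.mpr (hφ τ)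
    exact ⟨g, i, congrArg (MulAut.conj g * ·) (map_pow (Suzuki.fieldAutHom hm hF) φ i)⟩

section PSL

variable {F : Type*} [Field F]

local notation "GLt" => GL (Fin (0 + 2)) F
local notation "SLt" => Matrix.SpecialLinearGroup (Fin (0 + 2)) F
local notation "PG" => Matrix.ProjectiveSpecialLinearGroup (Fin (0 + 2)) F

/-- `diag(1, -1)` -/
def del : GLt :=
  ⟨!![1, 0; 0, -1], !![1, 0; 0, -1], by ext i j; fin_cases i <;> fin_cases j <;> simp [Matrix.mul_apply, Fin.sum_univ_two],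
    by ext i j; fin_cases i <;> fin_cases j <;> simp [Matrix.mul_apply, Fin.sum_univ_two]⟩

theorem del_mul_self : (del : GLt) * del = 1 := Units.ext (del (F := F)).val_inv

theorem map_del (σ : F ≃+* F) : Matrix.GeneralLinearGroup.map (σ : F →+* F) (del : GLt) = del := by
  refine Units.ext (Matrix.ext fun i j => ?_)
  fin_cases i <;> fin_cases j <;> simp [del]

/-- field automorphisms -/
noncomputable def fld : RingAut F →* MulAut PG where
  toFun σ := AutPSL.semi 1 σ
  map_one' := AutPSL.semi_one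
  map_mul' σ τ := by
    rw [AutPSL.semi_mul, map_one, mul_one]
    rfl

theorem det_cases [Fintype F] (h3 : Fintype.card F % 4 = 3) {d : F} (hd : d ≠ 0) :
    ∃ c : F, c ≠ 0 ∧ (d = c * c ∨ d = -(c * c)) := by
  classical
  have hF : ringChar F ≠ 2 := fun h2 => by
    have := (FiniteField.even_card_iff_char_two (F := F)).mp h2
    omega
  by_cases hs : IsSquare d
  · obtain ⟨c, rfl⟩ := hs
    exact ⟨c, left_ne_zero_of_mul hd, Or.inl rfl⟩
  · have h1 : quadraticChar F (-1) = -1 :=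
      (quadraticChar_neg_one_iff_not_isSquare (a := (-1 : F))).mpr fun h => (FiniteField.isSquare_neg_one_iff.mp h) h3
    have h2 : quadraticChar F d = -1 := quadraticChar_neg_one_iff_not_isSquare.mpr hs
    have h4 : IsSquare (-d) := by
      rw [← quadraticChar_one_iff_isSquare (neg_ne_zero.mpr hd), ← neg_one_mul, map_mul, h1, h2]
      norm_num
    obtain ⟨c, hc⟩ := h4
    refine ⟨c, fun h => hd ?_, Or.inr ?_⟩
    · rw [h, mul_zero] at hc; exact neg_eq_zero.mp hc
    · rw [← hc, neg_neg]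

theorem semi_eq_conj {g : GLt} {c : F} (hc : c ≠ 0) (hdet : (g : Matrix (Fin (0 + 2)) (Fin (0 + 2)) F).det = c * c) :
    ∃ s : PG, AutPSL.semi g (RingEquiv.refl F) = MulAut.conj s := by
  let u : GLt := Matrix.GeneralLinearGroup.scalar (Fin (0 + 2)) (Units.mk0 c⁻¹ (inv_ne_zero hc))
  have hu : ((u * g : GLt) : Matrix (Fin (0 + 2)) (Fin (0 + 2)) F).det = 1 := by
    rw [Units.val_mul, Matrix.det_mul, hdet]
    simp [u, Matrix.det_diagonal]
    field_simp
  let s : SLt := ⟨_, hu⟩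
  refine ⟨AutPSL.proj _ F s, ?_⟩
  have h : AutPSL.semi (u * g) (RingEquiv.refl F) = AutPSL.semi g (RingEquiv.refl F) := by
    rw [← AutPSL.semi_refl_mul, AutPSL.semi_scalar, one_mul]
  rw [← h]
  refine MulEquiv.ext fun x => ?_
  obtain ⟨t, rfl⟩ := AutPSL.proj_surjective x
  rw [MulAut.conj_apply, ← map_inv, ← map_mul, ← map_mul]
  refine AutPSL.semi_proj_eq _ _ ?_
  have hinv : ((s⁻¹ : SLt) : Matrix (Fin (0 + 2)) (Fin (0 + 2)) F) = (((u * g)⁻¹ : GLt) : Matrix (Fin (0 + 2)) (Fin (0 + 2)) F) := by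
    have h1 : Matrix.SpecialLinearGroup.toGL s = u * g := Units.ext rfl
    rw [← h1, ← map_inv]; rfl
  rw [Matrix.SpecialLinearGroup.coe_mul, Matrix.SpecialLinearGroup.coe_mul, hinv]
  simp [s]

theorem semi_cases [Fintype F] (h3 : Fintype.card F % 4 = 3) (g : GLt) :
    ∃ (s : PG) (e : ℕ), AutPSL.semi g (RingEquiv.refl F) =
      MulAut.conj s * AutPSL.semi (del : GLt) (RingEquiv.refl F) ^ e := by
  have hd : (g : Matrix (Fin (0 + 2)) (Fin (0 + 2)) F).det ≠ 0 :=
    (Matrix.isUnits_det_units g).ne_zero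
  obtain ⟨c, hc, h | h⟩ := det_cases h3 hd
  · obtain ⟨s, hs⟩ := semi_eq_conj hc h
    exact ⟨s, 0, by rw [pow_zero, mul_one, hs]⟩
  · obtain ⟨s, hs⟩ := semi_eq_conj (g := g * del) hc (by
      rw [Units.val_mul, Matrix.det_mul, h]
      simp [del, Matrix.det_fin_two])
    refine ⟨s, 1, ?_⟩
    rw [pow_one, ← hs, AutPSL.semi_refl_mul, mul_assoc, del_mul_self, mul_one]

/-- The groups `L₂(q)`, `q` an odd power of `3`. -/
theorem hasGen_psl [Fintype F] {n : ℕ} (hF : Fintype.card F = 3 ^ (2 * n + 1)) :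
    HasGen (Matrix.ProjectiveSpecialLinearGroup (Fin 2) F) := by
  haveI : Fact (Nat.Prime 3) := ⟨Nat.prime_three⟩
  haveI : Finite (RingAut F) := Finite.of_injective (fun τ : RingAut F => (τ : F → F)) DFunLike.coe_injective
  obtain ⟨hcyc, hcard⟩ := AutPSL.fieldAut_facts (F := F) 3 (2 * n + 1) (by omega) hF
  haveI : IsCyclic (RingAut F) := hcyc
  obtain ⟨φ, hφ⟩ := IsCyclic.exists_generator (α := RingAut F)
  have h3 : Fintype.card F % 4 = 3 := by
    rw [hF, pow_succ, pow_mul, Nat.mul_mod, Nat.pow_mod]; norm_num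
  have hne : (-1 : F) ≠ 1 := fun h => by
    have := (FiniteField.isSquare_neg_one_iff (F := F)).mp ⟨1, by rw [mul_one]; exact h⟩
    exact this h3
  let D : MulAut PG := AutPSL.semi (del : GLt) (RingEquiv.refl F)
  have hD2 : D ^ 2 = 1 := by
    rw [pow_two, AutPSL.semi_refl_mul, del_mul_self, AutPSL.semi_one]
  have hcomm : Commute D (fld φ) := by
    show AutPSL.semi _ _ * AutPSL.semi _ _ = AutPSL.semi _ _ * AutPSL.semi _ _
    rw [AutPSL.semi_mul, AutPSL.semi_mul, map_one, map_del, mul_one, one_mul]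
    congr 1
  let J : SLt := ⟨!![0, 1; -1, 0], by simp [Matrix.det_fin_two]⟩
  refine ⟨D * fld φ, AutPSL.proj _ F J, fun h => ?_, ?_, fun α => ?_⟩
  · obtain ⟨c, -, hJ⟩ := AutPSL.proj_eq_iff.mp ((map_one (AutPSL.proj (Fin (0 + 2)) F)).trans h.symm)
    have := congrFun (congrFun hJ 0) 1
    simp [J] at this
  · have h1 : fld φ (AutPSL.proj _ F J) = AutPSL.proj _ F J := by
      refine AutPSL.semi_proj_eq _ _ ?_
      ext i j
      fin_cases i <;> fin_cases j <;> simp [J]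
    rw [MulAut.mul_apply, h1]
    let J' : SLt := ⟨!![0, -1; 1, 0], by simp [Matrix.det_fin_two]⟩
    have h2 : D (AutPSL.proj _ F J) = AutPSL.proj _ F J' := by
      refine AutPSL.semi_proj_eq _ _ ?_
      show _ = (del : GLt).val * _ * (del : GLt).inv
      ext i j
      fin_cases i <;> fin_cases j <;> simp [J, J', del, Matrix.mul_apply, Fin.sum_univ_two]
    rw [h2, AutPSL.proj_eq_iff]
    refine ⟨-1, by simp, ?_⟩
    ext i j
    fin_cases i <;> fin_cases j <;> simp [J, J']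
  · obtain ⟨g, σ, rfl⟩ := AutPSL.exists_semi_of_two α
    obtain ⟨s, e, hse⟩ := semi_cases h3 g
    obtain ⟨j, hj⟩ := mem_powers_iff_mem_zpowers.mpr (hφ σ)
    simp only at hj
    have hf : φ ^ (2 * n + 1) = 1 := by rw [← hcard]; exact pow_card_eq_one'
    obtain ⟨i, hi1, hi2⟩ : ∃ i, D ^ i = D ^ e ∧ φ ^ i = φ ^ j := by
      rcases Nat.mod_two_eq_zero_or_one (j + e) with h | h
      · refine ⟨j, ?_, rfl⟩
        rw [pow_eq_pow_mod j hD2, pow_eq_pow_mod e hD2]
        congr 1; omega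
      · refine ⟨j + (2 * n + 1), ?_, by rw [pow_add, hf, mul_one]⟩
        rw [pow_eq_pow_mod (j + (2 * n + 1)) hD2, pow_eq_pow_mod e hD2]
        congr 1; omega
    refine ⟨s, i, ?_⟩
    rw [hcomm.mul_pow, hi1, ← map_pow, hi2, hj, ← mul_assoc, ← hse]
    show _ = AutPSL.semi _ _ * AutPSL.semi _ _
    rw [AutPSL.semi_mul, map_one, mul_one]
    rfl

end PSL

theorem hasGen_of_isSuzukiOrPSL2 {X : Type*} [Group X] (h : Cfsg.IsSuzukiOrPSL2OddPowerThree X) :
    HasGen X := by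
  rcases h with ⟨F, _, _, m, hm, hF, ⟨e⟩⟩ | ⟨F, _, _, n, hF, ⟨e⟩⟩
  · exact hasGen_of_equiv (e.trans (Suzuki.lieEquiv hm hF).symm) (hasGen_sz hm hF)
  · exact hasGen_of_equiv e (hasGen_psl hF)

end Cfsg.Agent.SThreeFpf
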