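import Cfsg.Agent.EqLemmas
import Cfsg.Agent.Lib.SThreeFpf.Outer
import Cfsg.Agent.Lib.SThreeSimple.Main
import Cfsg.Agent.Lib.FPF.Basic
import Cfsg.Agent.Lib.Cores.Basic
import Cfsg.Agent.Lib.Solvable.Basic
import Cfsg.Agent.Lib.Involves.Basic

/-!
# `S₃`-free groups with fixed-point-free operators (owner: helper87)

* `Comp A n`      : `A` has a normal `p`-complement for every prime `p` dividing `n`
* `not_noFix_of_hasGen` : such operators have fixed points on a simple group with `HasGen`
* `solvable`      : an `S₃`-free group with such operators and no fixed points is solvable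
-/

set_option autoImplicit false
set_option linter.style.haveILetI false
set_option linter.unusedSectionVars false

namespace Cfsg.Agent.SThreeFpf

open Subgroup

universe u v

variable {A : Type v} [Group A] [Finite A] {G : Type u} [Group G] [Finite G]

/-- A normal `p`-complement for each prime divisor `p` of `n`. -/
def Comp (A : Type v) [Group A] (n : ℕ) : Prop :=
  ∀ p : ℕ, p.Prime → p ∣ n → ∃ L : Subgroup A, L.Normal ∧ ¬ p ∣ Nat.card L ∧ ∃ k, L.index = p ^ k

theorem Comp.mono {n m : ℕ} (h : Comp A n) (hm : m ∣ n) : Comp A m :=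
  fun p hp hd => h p hp (hd.trans hm)

theorem Comp.subgroup {n : ℕ} (h : Comp A n) (B : Subgroup A) : Comp B n := by
  intro p hp hd
  obtain ⟨L, hLn, hL, k, hk⟩ := h p hp hd
  haveI := hLn
  refine ⟨L.subgroupOf B, inferInstance, fun hd' => hL ?_, ?_⟩
  · exact hd'.trans (Subgroup.card_dvd_of_injective ((B.subtype).subgroupComap L)
      fun x y e => Subtype.ext (Subtype.ext (congrArg (fun z : L => (z : A)) e)))
  · have : (L.subgroupOf B).index ∣ p ^ k := hk ▸ Subgroup.relIndex_dvd_index_of_normal L B
    obtain ⟨j, -, hj⟩ := (Nat.dvd_prime_pow hp).mp this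
    exact ⟨j, hj⟩

theorem Comp.range {n : ℕ} (h : Comp A n) {B : Type*} [Group B] (f : A →* B) : Comp f.range n := by
  intro p hp hd
  obtain ⟨L, hLn, hL, k, hk⟩ := h p hp hd
  haveI := hLn
  refine ⟨L.map f.rangeRestrict, hLn.map _ f.rangeRestrict_surjective,
    fun hd' => hL (hd'.trans (L.card_map_dvd f.rangeRestrict)), ?_⟩
  have : (L.map f.rangeRestrict).index ∣ p ^ k :=
    hk ▸ Subgroup.index_map_dvd L f.rangeRestrict_surjective
  obtain ⟨j, -, hj⟩ := (Nat.dvd_prime_pow hp).mp this
  exact ⟨j, hj⟩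

/-- A `p`-group of automorphisms fixes a non-trivial element. -/
theorem exists_fixed {V : Type*} [Group V] [Finite V] (act : A →* MulAut V) {p : ℕ} (hp : p.Prime)
    (L : Subgroup A) {k : ℕ} (hk : L.index = p ^ k) (hV : p ∣ Nat.card V)
    (hL : ∀ l ∈ L, ∀ v, act l v = v) : ∃ v : V, v ≠ 1 ∧ ∀ a, act a v = v := by
  haveI := Fact.mk hp
  by_contra hno
  push Not at hno
  have hle : L ≤ act.ker := fun l hl => MulEquiv.ext fun v => hL l hl v
  have hd : act.ker.index ∣ p ^ k := hk ▸ Subgroup.index_dvd_of_le hle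
  rw [Subgroup.index_ker] at hd
  obtain ⟨j, -, hj⟩ := (Nat.dvd_prime_pow hp).mp hd
  refine FPF.not_dvd_card act.range.subtype (IsPGroup.of_card hj) (fun g hg => ?_) hV
  by_contra hg1
  obtain ⟨a, ha⟩ := hno g hg1
  exact ha (hg ⟨act a, a, rfl⟩)

/-- No fixed points on the quotient by an abelian normal invariant `p`-subgroup. -/
theorem noFix_quot (act : A →* MulAut G) (hfix : FPF.NoFix act) (hA : Comp A (Nat.card G))
    (R : Subgroup G) [R.Normal] (hR : FPF.Inv act R) {p : ℕ} (hp : p.Prime) (hRp : IsPGroup p R)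
    (hab : ∀ x ∈ R, ∀ y ∈ R, x * y = y * x) : FPF.NoFix (FPF.quotAct act R hR) := by
  haveI := Fact.mk hp
  intro q hq
  induction q using QuotientGroup.induction_on with
  | _ g =>
  by_contra hgR
  rw [QuotientGroup.eq_one_iff] at hgR
  rcases eq_or_ne R ⊥ with rfl | hRne
  · refine hgR (hfix g fun a => ?_ : g = 1)
    have := QuotientGroup.eq.mp (hq a).symm
    rw [Subgroup.mem_bot, inv_mul_eq_one] at this
    exact this.symm
  haveI : Nontrivial R := (Subgroup.nontrivial_iff_ne_bot R).mpr hRne
  obtain ⟨r, hr, hrc⟩ := hRp.nontrivial_iff_card.mp inferInstance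
  have hpG : p ∣ Nat.card G :=
    (hrc ▸ dvd_pow_self p (by omega) : p ∣ Nat.card R).trans (Subgroup.card_subgroup_dvd_card R)
  obtain ⟨L, hLn, hL, k, hk⟩ := hA p hp hpG
  -- no element of `R` is fixed by `L`
  have hCL : ∀ x ∈ R, (∀ l ∈ L, act l x = x) → x = 1 := by
    let V : Subgroup G :=
      { carrier := {x | x ∈ R ∧ ∀ l ∈ L, act l x = x}
        one_mem' := ⟨R.one_mem, fun l _ => map_one _⟩
        mul_mem' := fun hx hy => ⟨R.mul_mem hx.1 hy.1, fun l hl => by rw [map_mul, hx.2 l hl, hy.2 l hl]⟩
        inv_mem' := fun hx => ⟨R.inv_mem hx.1, fun l hl => by rw [map_inv, hx.2 l hl]⟩ }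
    have hV : FPF.Inv act V := fun a x hx => ⟨hR a x hx.1, fun l hl => by
      have h1 := hx.2 (a⁻¹ * l * a) (by simpa using hLn.conj_mem l hl a⁻¹)
      calc act l (act a x) = act (a * (a⁻¹ * l * a)) x := by
            rw [← MulAut.mul_apply, ← map_mul]; congr 2; group
        _ = act a x := by rw [map_mul, MulAut.mul_apply, h1]⟩
    by_contra hno
    push Not at hno
    obtain ⟨x, hxR, hxL, hx1⟩ := hno
    have hVp : IsPGroup p V := hRp.to_le fun y hy => hy.1
    haveI : Nontrivial V := ⟨⟨⟨x, hxR, hxL⟩, 1, fun e => hx1 (congrArg Subtype.val e)⟩⟩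
    obtain ⟨s, hs, hsc⟩ := hVp.nontrivial_iff_card.mp inferInstance
    obtain ⟨v, hv1, hv⟩ := exists_fixed (FPF.resAct act V hV) hp L hk (hsc ▸ dvd_pow_self p (by omega))
      (fun l hl w => Subtype.ext (w.2.2 l hl))
    exact hv1 (Subtype.ext (hfix v fun a => congrArg Subtype.val (hv a)))
  -- the cocycle
  letI : CommGroup R :=
    { (inferInstance : Group R) with mul_comm := fun x y => Subtype.ext (hab x x.2 y y.2) }
  haveI : Fintype L := Fintype.ofFinite L
  let f : A → R := fun a => ⟨g⁻¹ * act a g, QuotientGroup.eq.mp (hq a).symm⟩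
  let T : A → R →* R := fun a =>
    { toFun := fun x => ⟨act a x, hR a x x.2⟩
      map_one' := Subtype.ext (map_one _)
      map_mul' := fun x y => Subtype.ext (map_mul _ _ _) }
  have hf : ∀ a b, f (a * b) = f a * T a (f b) := fun a b => Subtype.ext (by
    show g⁻¹ * act (a * b) g = g⁻¹ * act a g * act a (g⁻¹ * act b g)
    rw [map_mul, MulAut.mul_apply, map_mul (act a), map_inv]; group)
  let P : R := ∏ l : L, f l
  have hP : ∀ l : L, f (l : A) ^ Nat.card L * T (l : A) P = P := fun l => by
    show f (l : A) ^ Nat.card L * T (l : A) (∏ m : L, f m) = ∏ m : L, f m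
    rw [map_prod, Nat.card_eq_fintype_card, ← Finset.card_univ, ← Finset.prod_const,
      ← Finset.prod_mul_distrib]
    exact Fintype.prod_equiv (Equiv.mulLeft l) _ _ fun m => (hf l m).symm
  have hcop : (Nat.card R).Coprime (Nat.card L) := by
    rw [hrc]; exact Nat.Coprime.pow_left _ ((Nat.Prime.coprime_iff_not_dvd hp).mpr hL)
  let N : ℕ := Nat.card L
  let y : R := (powCoprime hcop).symm P
  have hy : y ^ N = P := (powCoprime hcop).apply_symm_apply P
  have hfl : ∀ l : L, f (l : A) * T (l : A) y = y := fun l => by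
    refine (powCoprime hcop).injective ?_
    show (f (l : A) * T (l : A) y) ^ N = y ^ N
    rw [mul_pow, ← map_pow, hy, hP]
  have hcL : ∀ l ∈ L, act l (g * y) = g * y := fun l hl => by
    have := congrArg Subtype.val (hfl ⟨l, hl⟩)
    simp only [Subgroup.coe_mul] at this
    change g⁻¹ * act l g * act l y = y at this
    calc act l (g * y) = g * (g⁻¹ * act l g * act l y) := by rw [map_mul]; group
      _ = g * y := by rw [this]
  have hfixc : ∀ a, act a (g * y) = g * y := fun a => by
    have hmem : (g * (y : G))⁻¹ * act a (g * y) ∈ R := by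
      rw [map_mul, mul_inv_rev, show (y : G)⁻¹ * g⁻¹ * (act a g * act a y) = (y : G)⁻¹ * (g⁻¹ * act a g) * act a y by group]
      exact R.mul_mem (R.mul_mem (R.inv_mem y.2) (f a).2) (hR a y y.2)
    refine (inv_mul_eq_one.mp (hCL _ hmem fun l hl => ?_)).symm
    rw [map_mul, map_inv, hcL l hl]
    congr 1
    have h1 := hcL (a⁻¹ * l * a) (by simpa using hLn.conj_mem l hl a⁻¹)
    calc act l (act a (g * y)) = act (a * (a⁻¹ * l * a)) (g * y) := by
          rw [← MulAut.mul_apply, ← map_mul]; congr 2; group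
      _ = act a (g * y) := by rw [map_mul act, MulAut.mul_apply, h1]
  have hc1 : g * (y : G) = 1 := hfix _ hfixc
  exact hgR (eq_inv_of_mul_eq_one_left hc1 ▸ R.inv_mem y.2)

/-- Operators with normal complements always fix a non-trivial element. -/
theorem not_noFix_of_hasGen {S : Type u} [Group S] [Finite S] [IsSimpleGroup S]
    (hna : ¬ IsMulCommutative S) (hgen : HasGen S) (act : A →* MulAut S)
    (hA : Comp A (Nat.card S)) : ¬ FPF.NoFix act := by
  intro hfix
  obtain ⟨σ, w, hw, hσw, hgen⟩ := hgen
  have hZ : Subgroup.center S = ⊥ := ((inferInstance : (Subgroup.center S).Normal).eq_bot_or_eq_top).resolve_right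
    fun h => hna ⟨⟨fun x y => (Subgroup.mem_center_iff.mp (h ▸ Subgroup.mem_top x) y).symm⟩⟩
  have hinj : Function.Injective (MulAut.conj : S →* MulAut S) := by
    rw [injective_iff_map_eq_one]
    intro s hs
    have : s ∈ Subgroup.center S := Subgroup.mem_center_iff.mpr fun t => by
      have h1 : MulAut.conj s t = t := by rw [hs]; rfl
      rw [MulAut.conj_apply, mul_inv_eq_iff_eq_mul] at h1
      exact h1.symm
    rwa [hZ, Subgroup.mem_bot] at this
  let I : Subgroup (MulAut S) := (MulAut.conj : S →* MulAut S).range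
  haveI hIn : I.Normal := ⟨fun x hx b => by
    obtain ⟨s, rfl⟩ := hx
    exact ⟨b s, MulEquiv.ext fun t => by simp [MulAut.conj_apply]⟩⟩
  let B : Subgroup (MulAut S) := act.range
  have hB : ∀ s : S, (∀ b ∈ B, b s = s) → s = 1 := fun s hs => hfix s fun a => hs _ ⟨a, rfl⟩
  have hBI : ∀ s : S, MulAut.conj s ∈ B → s = 1 := by
    by_contra hno
    push Not at hno
    obtain ⟨s₀, hs₀, hs₀1⟩ := hno
    let M : Subgroup S := B.comap (MulAut.conj : S →* MulAut S)
    have hMinv : FPF.Inv (B.subtype) M := fun b x hx => by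
      show MulAut.conj ((b : MulAut S) x) ∈ B
      have : MulAut.conj ((b : MulAut S) x) = b * MulAut.conj x * (b : MulAut S)⁻¹ :=
        MulEquiv.ext fun t => by simp [MulAut.conj_apply]
      rw [this]
      exact B.mul_mem (B.mul_mem b.2 hx) (B.inv_mem b.2)
    haveI : Nontrivial M := ⟨⟨⟨s₀, hs₀⟩, 1, fun e => hs₀1 (congrArg Subtype.val e)⟩⟩
    -- a minimal invariant non-trivial normal subgroup inside `M`
    let C : Set (Subgroup B) := {X | X.Normal ∧ X ≠ ⊥ ∧ ∀ b ∈ X, (b : MulAut S) ∈ I}
    have hCne : C.Nonempty := ⟨I.subgroupOf B, inferInstance, fun h => hs₀1 (hinj (by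
      have : (⟨MulAut.conj s₀, hs₀⟩ : B) ∈ I.subgroupOf B := ⟨s₀, rfl⟩
      rw [h, Subgroup.mem_bot] at this
      rw [map_one]; exact congrArg Subtype.val this)), fun b hb => hb⟩
    obtain ⟨X, ⟨hXn, hX1, hXI⟩, hXmin⟩ := (wellFounded_lt (α := Subgroup B)).has_min C hCne
    haveI : Nontrivial X := (Subgroup.nontrivial_iff_ne_bot X).mpr hX1
    obtain ⟨p, hp, hpX⟩ := Nat.exists_prime_and_dvd (Finite.one_lt_card (α := X)).ne'
    have hXS : Nat.card X ∣ Nat.card S := by
      have h1 : Nat.card (X.map B.subtype) = Nat.card X :=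
        Subgroup.card_map_of_injective B.subtype_injective
      have h2 : X.map B.subtype ≤ I := by rintro _ ⟨b, hb, rfl⟩; exact hXI b hb
      rw [← h1]
      refine (Subgroup.card_dvd_of_le h2).trans (dvd_of_eq ?_)
      exact (Nat.card_congr (MonoidHom.ofInjective hinj).toEquiv).symm
    obtain ⟨L, hLn, hL, k, hk⟩ := hA.range act p hp (hpX.trans hXS)
    have hXL : X ⊓ L = ⊥ := by
      by_contra h
      haveI := hXn; haveI := hLn
      refine hXmin (X ⊓ L) ⟨inferInstance, h, fun b hb => hXI b hb.1⟩ (lt_of_le_of_ne inf_le_left ?_)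
      intro e
      exact hL (hpX.trans (Subgroup.card_dvd_of_le (e ▸ inf_le_right)))
    haveI := hXn
    obtain ⟨x, hx1, hx⟩ := exists_fixed (A := B) (MulAut.conjNormal (H := X)) hp L hk hpX fun l hl v => by
      refine Subtype.ext ?_
      rw [MulAut.conjNormal_apply]
      have hc : Commute l (v : B) :=
        Subgroup.commute_of_normal_of_disjoint L X hLn hXn (disjoint_iff.mpr (inf_comm L X ▸ hXL)) l v hl v.2
      rw [hc.eq, mul_inv_cancel_right]
    obtain ⟨s, hs⟩ := hXI x x.2
    refine hx1 (Subtype.ext (Subtype.ext ?_))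
    show ((x : B) : MulAut S) = 1
    rw [← hs, ← map_one (MulAut.conj : S →* MulAut S)]
    refine congrArg _ (hB s fun b hb => hinj ?_)
    have := congrArg (fun z : X => ((z : B) : MulAut S)) (hx ⟨b, hb⟩)
    simp only [MulAut.conjNormal_apply, Subgroup.coe_mul, Subgroup.coe_inv] at this
    rw [← hs] at this
    exact (MulEquiv.ext fun t => by simp [MulAut.conj_apply] : MulAut.conj (b s) = b * MulAut.conj s * b⁻¹).trans this
  -- `B` is cyclic
  have hσI : ∀ b : MulAut S, (QuotientGroup.mk b : MulAut S ⧸ I) ∈ Subgroup.zpowers (QuotientGroup.mk σ : MulAut S ⧸ I) := fun b => by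
    obtain ⟨s, i, rfl⟩ := hgen b
    refine Subgroup.mem_zpowers_iff.mpr ⟨i, ?_⟩
    have h1 : ((MulAut.conj s : MulAut S) : MulAut S ⧸ I) = 1 :=
      (QuotientGroup.eq_one_iff _).mpr (MonoidHom.mem_range.mpr ⟨s, rfl⟩)
    rw [QuotientGroup.mk_mul, h1, one_mul, zpow_natCast, QuotientGroup.mk_pow]
  let q : B →* Subgroup.zpowers (QuotientGroup.mk σ : MulAut S ⧸ I) :=
    ((QuotientGroup.mk' I).comp B.subtype).codRestrict _ fun b => hσI b
  have hq : Function.Injective q := by
    rw [injective_iff_map_eq_one]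
    intro b hb
    obtain ⟨s, hs⟩ := (QuotientGroup.eq_one_iff _).mp (congrArg Subtype.val hb)
    refine Subtype.ext ?_
    change MulAut.conj s = (b : MulAut S) at hs
    show (b : MulAut S) = 1
    rw [← hs, hBI s (hs ▸ b.2), map_one]
  haveI : IsCyclic B := isCyclic_of_injective q hq
  obtain ⟨β, hβ⟩ := IsCyclic.exists_generator (α := B)
  have hβfix : ∀ s : S, (β : MulAut S) s = s → s = 1 := fun s hs => hB s fun b hb => by
    have : (⟨b, hb⟩ : B) ∈ FPF.stabOf B.subtype s := Subgroup.zpowers_le.mpr (show β ∈ FPF.stabOf B.subtype s from hs) (hβ ⟨b, hb⟩)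
    exact this
  obtain ⟨s, i, hsi⟩ := hgen (β : MulAut S)
  have hβw : (β : MulAut S) w = s * w * s⁻¹ := by
    have hi : ∀ i : ℕ, (σ ^ i) w = w := fun i => by
      induction i with
      | zero => rfl
      | succ i ih => rw [pow_succ, MulAut.mul_apply, hσw, ih]
    rw [hsi, MulAut.mul_apply, hi, MulAut.conj_apply]
  have hsur : Function.Surjective fun x : S => x⁻¹ * (β : MulAut S) x := by
    refine Finite.injective_iff_surjective.mp fun x y (e : x⁻¹ * (β : MulAut S) x = y⁻¹ * (β : MulAut S) y) => ?_
    refine (mul_inv_eq_one.mp (hβfix (y * x⁻¹) ?_)).symm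
    rw [map_mul, map_inv, mul_inv_eq_iff_eq_mul]
    calc (β : MulAut S) y = y * (y⁻¹ * (β : MulAut S) y) := by group
      _ = y * x⁻¹ * (β : MulAut S) x := by rw [← e]; group
  obtain ⟨x, hx⟩ := hsur s⁻¹
  simp only at hx
  have hbx : (β : MulAut S) x = x * s⁻¹ := by rw [← hx]; group
  have hfixed : (β : MulAut S) (x * w * x⁻¹) = x * w * x⁻¹ := by
    rw [map_mul, map_mul, map_inv, hbx, hβw]; group
  exact hw (conj_eq_one_iff.mp (hβfix _ hfixed))

/-- The stabiliser of a subgroup in the operators. -/
def stab (act : A →* MulAut G) (N : Subgroup G) : Subgroup A where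
  carrier := {a | ∀ x, act a x ∈ N ↔ x ∈ N}
  one_mem' := fun x => by rw [map_one, MulAut.one_apply]
  mul_mem' := fun {a b} ha hb x => by rw [map_mul, MulAut.mul_apply, ha, hb]
  inv_mem' := fun {a} ha x => by
    conv_rhs => rw [← FPF.apply_inv_apply act a x]
    exact (ha _).symm

/-- A stabiliser acts without fixed points on a non-abelian minimal normal subgroup. -/
theorem noFix_stab (act : A →* MulAut G) (hfix : FPF.NoFix act) (N : Subgroup G) [hN : N.Normal]
    (hmin : ∀ K : Subgroup G, K.Normal → K ≤ N → K = ⊥ ∨ K = N) (hna : ¬ IsMulCommutative N)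
    (x : G) (hx : x ∈ N) (hfx : ∀ a ∈ stab act N, act a x = x) : x = 1 := by
  classical
  have hdich : ∀ c, act c x = x ∨ ∀ n ∈ N, Commute n (act c x) := fun c => by
    by_cases hc : c ∈ stab act N
    · exact Or.inl (hfx c hc)
    refine Or.inr fun n hn => ?_
    let M : Subgroup G := N.map (act c).toMonoidHom
    haveI hM : M.Normal := hN.map _ (act c).surjective
    have hdis : N ⊓ M = ⊥ := (hmin _ inferInstance inf_le_left).resolve_right fun h => by
      have hle : N ≤ M := inf_eq_left.mp h
      have he : M = N := (Subgroup.eq_of_le_of_card_ge hle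
        (Subgroup.card_map_of_injective (f := (act c).toMonoidHom) (act c).injective).le).symm
      refine hc fun y => ⟨fun hy => ?_, fun hy => he ▸ ⟨y, hy, rfl⟩⟩
      obtain ⟨z, hz, hzy⟩ := he.ge hy
      exact (act c).injective hzy ▸ hz
    exact Subgroup.commute_of_normal_of_disjoint N M hN hM (disjoint_iff.mpr hdis) n _ hn ⟨x, hx, rfl⟩
  have hcomm : ∀ a b, Commute (act a x) (act b x) := fun a b => by
    have h : Commute x (act (a⁻¹ * b) x) := (hdich (a⁻¹ * b)).elim
      (fun h => by rw [h]) (fun h => h x hx)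
    have := h.map (act a).toMonoidHom
    simpa using this
  let T : Set G := Set.range fun a => act a x
  haveI : Fintype T := Fintype.ofFinite T
  have hcommT : ((Finset.univ : Finset T) : Set T).Pairwise (Function.onFun Commute fun t : T => (t : G)) := by
    rintro ⟨_, a, rfl⟩ - ⟨_, b, rfl⟩ - -
    exact hcomm a b
  let D : Subgroup G := Subgroup.closure T
  haveI : IsMulCommutative D := Subgroup.isMulCommutative_closure (by
    rintro _ ⟨a, rfl⟩ _ ⟨b, rfl⟩; exact hcomm a b)
  letI : CommGroup D := { (inferInstance : Group D) with mul_comm := fun u v => mul_comm' u v }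
  let i : T → D := fun t => ⟨t, Subgroup.subset_closure t.2⟩
  let P : D := ∏ t : T, i t
  have hPfix : ∀ b, act b P = P := fun b => by
    let e : T → T := fun t => ⟨act b t, by obtain ⟨a, ha⟩ := t.2; exact ⟨b * a, by simp [← ha]⟩⟩
    have he : Function.Bijective e := Finite.injective_iff_bijective.mp fun u v h =>
      Subtype.ext ((act b).injective (congrArg Subtype.val h))
    have hD : FPF.Inv act D := fun c y hy => by
      induction hy using Subgroup.closure_induction with
      | mem y hy => obtain ⟨a, rfl⟩ := hy; exact Subgroup.subset_closure ⟨c * a, by simp⟩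
      | one => rw [map_one]; exact D.one_mem
      | mul y z _ _ iy iz => rw [map_mul]; exact D.mul_mem iy iz
      | inv y _ iy => rw [map_inv]; exact D.inv_mem iy
    show ((FPF.resAct act D hD b P : D) : G) = P
    rw [map_prod]
    exact congrArg Subtype.val (Fintype.prod_bijective e he _ _ fun t => Subtype.ext rfl)
  have hP : P = 1 := Subtype.ext (hfix _ hPfix)
  let t₀ : T := ⟨x, 1, by simp⟩
  rw [show P = ∏ t : T, i t from rfl, ← Finset.mul_prod_erase _ _ (Finset.mem_univ t₀)] at hP
  have hxC : x ∈ Subgroup.centralizer (N : Set G) := by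
    have hrest : ((∏ t ∈ Finset.univ.erase t₀, i t : D) : G) ∈ Subgroup.centralizer (N : Set G) := by
      refine Finset.prod_induction i (fun u : D => (u : G) ∈ Subgroup.centralizer (N : Set G))
        (fun u v hu hv => Subgroup.mul_mem _ hu hv) (Subgroup.one_mem _) fun t ht => ?_
      obtain ⟨a, ha⟩ := t.2
      rw [Subgroup.mem_centralizer_iff]
      intro n hn
      have h := (hdich a).resolve_left fun h => (Finset.ne_of_mem_erase ht) (Subtype.ext (ha.symm.trans h))
      have h' := (h n hn).eq
      simp only at ha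
      rwa [ha] at h'
    have := congrArg Subtype.val hP
    simp only [Subgroup.coe_mul, Subgroup.coe_one] at this
    change x * _ = 1 at this
    rw [eq_inv_of_mul_eq_one_left this]
    exact Subgroup.inv_mem _ hrest
  rcases hmin (N ⊓ Subgroup.centralizer (N : Set G)) inferInstance inf_le_left with h | h
  · have : x ∈ N ⊓ Subgroup.centralizer (N : Set G) := ⟨hx, hxC⟩
    rwa [h, Subgroup.mem_bot] at this
  · exact absurd ⟨⟨fun u v => Subtype.ext (Subgroup.mem_centralizer_iff.mp ((inf_eq_left.mp h) v.2) u u.2)⟩⟩ hna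

/-- The main theorem. -/
theorem solvable_aux (hCT : AbelianSylow.CentTarget.{u}) :
    ∀ (n : ℕ) (G : Type u) [Group G] [Finite G], Nat.card G ≤ n →
      ¬ Cfsg.Involves (Equiv.Perm (Fin 3)) G → ∀ (A : Type v) [Group A] [Finite A] (act : A →* MulAut G),
      FPF.NoFix act → Comp A (Nat.card G) → Group.IsSolvable G := by
  intro n
  induction n with
  | zero => intro G _ _ h; exact absurd h (Nat.not_le.mpr Nat.card_pos)
  | succ n ih =>
    intro G _ _ hn hS3 A _ _ act hfix hA
    rcases subsingleton_or_nontrivial G with hG | hG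
    · exact Group.isSolvable_of_comm fun a b => Subsingleton.elim _ _
    by_cases hR : ∃ p : ℕ, p.Prime ∧ Cfsg.pCore p G ≠ ⊥
    · obtain ⟨p, hp, hne⟩ := hR
      haveI := Fact.mk hp
      let P := Cfsg.pCore p G
      have hPp : IsPGroup p P := Cores.isPGroup_pCore p G
      have hPinv : FPF.Inv act P := fun a x hx => Cores.le_pCore
        ((Cores.pCore_normal p G).map _ (act a).surjective) (hPp.map (act a).toMonoidHom) ⟨x, hx, rfl⟩
      haveI : Nontrivial P := (Subgroup.nontrivial_iff_ne_bot P).mpr hne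
      let R : Subgroup G := P ⊓ Subgroup.centralizer (P : Set G)
      haveI : R.Normal := inferInstance
      have hRne : R ≠ ⊥ := fun h => by
        haveI := hPp.center_nontrivial
        obtain ⟨z, hz⟩ := exists_ne (1 : Subgroup.center P)
        have hm : ((z : P) : G) ∈ R := ⟨(z : P).2, Subgroup.mem_centralizer_iff.mpr fun y hy =>
          congrArg Subtype.val (Subgroup.mem_center_iff.mp z.2 ⟨y, hy⟩)⟩
        rw [h, Subgroup.mem_bot] at hm
        exact hz (Subtype.ext (Subtype.ext hm))
      have hRinv : FPF.Inv act R := fun a x hx => ⟨hPinv a x hx.1, Subgroup.mem_centralizer_iff.mpr fun y hy => by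
        have := congrArg (act a) (Subgroup.mem_centralizer_iff.mp hx.2 (act a⁻¹ y) (hPinv a⁻¹ y hy))
        simpa [map_mul, FPF.apply_inv_apply] using this⟩
      have hab : ∀ x ∈ R, ∀ y ∈ R, x * y = y * x := fun x hx y hy =>
        Subgroup.mem_centralizer_iff.mp hy.2 x hx.1
      have hlt : Nat.card (G ⧸ R) ≤ n := by
        have h2 := Subgroup.card_eq_card_quotient_mul_card_subgroup R
        have h3 : 1 < Nat.card R := (Subgroup.one_lt_card_iff_ne_bot R).mpr hRne
        have : 0 < Nat.card (G ⧸ R) := Nat.card_pos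
        nlinarith
      haveI hsR : Group.IsSolvable R :=
        Group.isSolvable_of_comm fun u v => Subtype.ext (hab u u.2 v v.2)
      haveI hsQ : Group.IsSolvable (G ⧸ R) := ih (G ⧸ R) hlt
        (fun h => hS3 (Involves.involves_of_surjective (QuotientGroup.mk' R) (QuotientGroup.mk'_surjective R) h))
        A (FPF.quotAct act R hRinv) (noFix_quot act hfix hA R hRinv hp (hPp.to_le inf_le_left) hab)
        (hA.mono (Subgroup.card_quotient_dvd_card R))
      exact Group.isSolvable_of_ker_le_range R.subtype (QuotientGroup.mk' R) (by simp)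
    · push Not at hR
      exfalso
      obtain ⟨N, hNn, hN1, -, hmin⟩ := Solvable.exists_minimal_normal (N := (⊤ : Subgroup G)) top_ne_bot
      haveI := hNn
      have hns : ¬ Group.IsSolvable N := fun hs => by
        obtain ⟨-, p, hp, hpg, -⟩ := Solvable.elementaryAbelian_of_minimal_normal N hN1 hmin
        exact hN1 (le_bot_iff.mp (hR p hp ▸ Cores.le_pCore hNn hpg))
      have hna : ¬ IsMulCommutative N := fun h => hns (Group.isSolvable_of_comm fun u v => h.is_comm.comm u v)
      by_cases hNt : N = ⊤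
      · subst hNt
        haveI : IsSimpleGroup G := ⟨fun K hK => hmin K hK le_top⟩
        have hnaG : ¬ IsMulCommutative G := fun h => hna ⟨⟨fun u v => Subtype.ext (h.is_comm.comm u v)⟩⟩
        exact not_noFix_of_hasGen hnaG
          (hasGen_of_isSuzukiOrPSL2 (SThreeSimple.simple_cases hCT hnaG hS3)) act hA hfix
      · have hlt : Nat.card N ≤ n := by
          have h1 : Nat.card N < Nat.card G := lt_of_le_of_ne
            (Nat.le_of_dvd Nat.card_pos (Subgroup.card_subgroup_dvd_card N))
            fun h => hNt (Subgroup.eq_top_of_card_eq N h)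
          omega
        have hinv : FPF.Inv (act.comp (stab act N).subtype) N := fun a x hx => (a.2 x).mpr hx
        refine hns (ih N hlt (fun h => hS3 (Involves.involves_of_subgroup h)) (stab act N)
          (FPF.resAct _ N hinv) (fun y hy => Subtype.ext ?_)
          ((hA.mono (Subgroup.card_subgroup_dvd_card N)).subgroup _))
        exact noFix_stab act hfix N hmin hna y y.2 fun a ha => congrArg Subtype.val (hy ⟨a, ha⟩)

end Cfsg.Agent.SThreeFpf
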